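import Groth.Agent.IsomTor8.Main
import Groth.Agent.NonAb.NormalBase
import Groth.Agent.CAlgMisc2.PureIdeal
import Groth.Agent.Et18.Descent
import Groth.Agent.AlgSpLib.FppfLocal

/-!
# The Isom scheme of two torsors under a finite flat group scheme is finite

Used for the injectivity of `H¹(X, G) → H¹(U, G)` over a normal base.
-/

set_option autoImplicit false
set_option linter.style.haveILetI false
set_option linter.unusedSectionVars false
set_option backward.isDefEq.respectTransparency.types false

universe u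

open CategoryTheory CategoryTheory.Limits MonoidalCategory CartesianMonoidalCategory MonObj GrpObj AlgebraicGeometry Opposite

noncomputable section

namespace Groth.Agent.TorsorInj

open Groth.Agent.IsomTor8

/-- A finite flat module over a domain is finitely presented. -/
theorem module_finitePresentation_of_flat (R : Type u) [CommRing R] (hR : IsDomain R ∨ Subsingleton R)
    (M : Type u) [AddCommGroup M] [Module R M] [Module.Finite R M] [Module.Flat R M] :
    Module.FinitePresentation R M := by
  refine CAlgMisc2.finitePresentation_of_isLocallyConstant ?_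
  rcases hR with hR | hR
  · refine (IsLocallyConstant.iff_exists_open _).2 fun p => ⟨Set.univ, isOpen_univ, trivial, fun q _ => ?_⟩
    rw [← Ideal.finrank_fiber_eq_rankAtStalk q.asIdeal, ← Ideal.finrank_fiber_eq_rankAtStalk p.asIdeal,
      Ideal.finrank_fiber_eq_finrank, Ideal.finrank_fiber_eq_finrank]
  · exact IsLocallyConstant.of_discrete _

/-- A finite flat morphism to an integral scheme is locally of finite presentation. -/
theorem lfp_of_finite_flat {Y X : Scheme.{u}} [IsIntegral X] (g : Y ⟶ X) [IsFinite g] [Flat g] :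
    LocallyOfFinitePresentation g := by
  refine IsZariskiLocalAtTarget.of_iSup_eq_top (fun V : X.affineOpens => V.1) (iSup_affineOpens_eq_top X)
    fun V => ?_
  haveI : IsAffine V.1.toScheme := V.2
  haveI : IsAffine (g ⁻¹ᵁ V.1).toScheme := V.2.preimage g
  haveI : IsFinite (g ∣_ V.1) := IsZariskiLocalAtTarget.restrict ‹_› _
  haveI : Flat (g ∣_ V.1) := IsZariskiLocalAtTarget.restrict ‹_› _
  rw [HasRingHomProperty.iff_of_isAffine (P := @LocallyOfFinitePresentation)]
  have hfin : (g ∣_ V.1).appTop.hom.Finite :=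
    ((HasAffineProperty.iff_of_isAffine (P := @IsFinite)).1 ‹IsFinite (g ∣_ V.1)›).2
  have hflat : (g ∣_ V.1).appTop.hom.Flat :=
    (HasRingHomProperty.iff_of_isAffine (P := @Flat)).1 ‹Flat (g ∣_ V.1)›
  have hdom : IsDomain Γ(V.1.toScheme, ⊤) ∨ Subsingleton Γ(V.1.toScheme, ⊤) := by
    by_cases h : Nonempty V.1.toScheme
    · haveI := h
      haveI : IsIntegral V.1.toScheme := isIntegral_of_isOpenImmersion V.1.ι
      exact Or.inl inferInstance
    · haveI : IsEmpty V.1.toScheme := not_nonempty_iff.1 h
      refine Or.inr ?_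
      rw [show (⊤ : V.1.toScheme.Opens) = ⊥ from SetLike.ext fun x => isEmptyElim x]
      infer_instance
  algebraize [(g ∣_ V.1).appTop.hom]
  haveI := hfin
  haveI := hflat
  haveI := module_finitePresentation_of_flat _ hdom Γ((g ⁻¹ᵁ V.1).toScheme, ⊤)
  show Algebra.FinitePresentation _ _
  infer_instance

variable {Z : Scheme.{u}} {G E F : Over Z} [GrpObj G] {aE : AlgGrp.Action G E} {aF : AlgGrp.Action G F}

/-- After a trivialising base change the Isom scheme is the group. -/
theorem exists_iso_tensor (hpE : NonAbH1.IsPseudoTorsorSch aE) (hpF : NonAbH1.IsPseudoTorsorSch aF)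
    {V : Over Z} (eV : V ⟶ E) (fV : V ⟶ F) {A : Over Z} (e : (homFun aE aF).RepresentableBy A) :
    ∃ ψ : A ⊗ V ≅ G ⊗ V, ψ.hom ≫ snd G V = snd A V := by
  refine ⟨Iso.symm
    { hom := lift (e.homEquiv.symm (univHom hpE eV fV)) (snd G V)
      inv := lift ((existsUnique_coord hpE hpF eV fV (pull (fst A V) (e.homEquiv (𝟙 A) : HomTor aE aF A)) (snd A V)).choose) (snd A V)
      hom_inv_id := by
        refine CartesianMonoidalCategory.hom_ext _ _ ?_ (by simp)
        rw [Category.assoc, lift_fst, Category.id_comp]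
        have hc := (existsUnique_coord hpE hpF eV fV (pull (fst A V) (e.homEquiv (𝟙 A) : HomTor aE aF A)) (snd A V)).choose_spec.1
        set gg := (existsUnique_coord hpE hpF eV fV (pull (fst A V) (e.homEquiv (𝟙 A) : HomTor aE aF A)) (snd A V)).choose
        set hh := lift (e.homEquiv.symm (univHom (aF := aF) hpE eV fV)) (snd G V) with hhh
        refine (existsUnique_coord hpE hpF eV fV (univHom hpE eV fV) (snd G V)).unique ?_ (by rw [lift_fst_snd, pull_id])
        have := congrArg (pull hh) hc
        rw [← pull_comp, ← pull_comp, comp_lift, hhh, lift_snd, lift_fst] at this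
        refine this.trans ?_
        exact ((e.homEquiv_eq _).symm).trans (e.homEquiv.apply_symm_apply _)
      inv_hom_id := by
        refine CartesianMonoidalCategory.hom_ext _ _ ?_ (by simp)
        rw [Category.assoc, lift_fst, Category.id_comp]
        apply e.homEquiv.injective
        rw [e.homEquiv_comp, Equiv.apply_symm_apply]
        refine (existsUnique_coord hpE hpF eV fV (pull (fst A V) (e.homEquiv (𝟙 A) : HomTor aE aF A)) (snd A V)).choose_spec.1.trans ?_
        exact (e.homEquiv_eq _).symm }, ?_⟩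
  exact lift_snd _ _

/-- Equivariant morphisms of torsors under a finite flat group form a finite scheme. -/
theorem exists_finite_rep [IsFinite G.hom] [LocallyOfFinitePresentation G.hom]
    (hE : NonAbH1.IsTorsorFor Scheme.fppfPrecoverage aE) (hF : NonAbH1.IsTorsorFor Scheme.fppfPrecoverage aF) :
    ∃ A : Over Z, Nonempty ((homFun aE aF).RepresentableBy A) ∧ IsFinite A.hom := by
  obtain ⟨A, ⟨e⟩, -, -⟩ := (exists_rep_of_torsors hE hF).1
  refine ⟨A, ⟨e⟩, ?_⟩
  obtain ⟨V₁, h1, h1', h1'', ⟨e₁⟩⟩ := exists_point_cover hE.2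
  obtain ⟨V₂, h2, h2', h2'', ⟨f₂⟩⟩ := exists_point_cover hF.2
  let V := V₁ ⊗ V₂
  haveI : Flat V.hom := inferInstanceAs (Flat (pullback.fst V₁.hom V₂.hom ≫ V₁.hom))
  haveI : LocallyOfFinitePresentation V.hom :=
    inferInstanceAs (LocallyOfFinitePresentation (pullback.fst V₁.hom V₂.hom ≫ V₁.hom))
  haveI : Surjective (pullback.fst V₁.hom V₂.hom) := MorphismProperty.pullback_fst (P := @Surjective) _ _ h2''
  haveI : Surjective V.hom := inferInstanceAs (Surjective (pullback.fst V₁.hom V₂.hom ≫ V₁.hom))
  obtain ⟨ψ, hψ⟩ := exists_iso_tensor hE.1 hF.1 (fst V₁ V₂ ≫ e₁) (snd V₁ V₂ ≫ f₂) e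
  have hloc : IsFinite (snd A V).left := by
    rw [← hψ, Over.comp_left]
    haveI : IsIso ψ.hom.left := ((Over.forget Z).mapIso ψ).isIso_hom
    exact (MorphismProperty.cancel_left_of_respectsIso @IsFinite _ _).2
      (MorphismProperty.pullback_snd (P := @IsFinite) _ _ inferInstance)
  haveI := Et18.descends_isFinite.{u}
  exact MorphismProperty.of_isPullback_of_descendsAlong (P := @IsFinite) (Q := AlgSpLib.FPPF.{u})
    (IsPullback.of_hasPullback A.hom V.hom).flip
    ⟨⟨(inferInstance : Surjective V.hom), (inferInstance : Flat V.hom)⟩,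
      (inferInstance : LocallyOfFinitePresentation V.hom)⟩ hloc

section BaseChange

variable {U : Scheme.{u}} (j : U ⟶ Z)

theorem homEquiv_left_fst {W' : Over U} {X : Over Z} (x : (Over.map j).obj W' ⟶ X) :
    ((Over.mapPullbackAdj j).homEquiv W' X x).left ≫ pullback.fst X.hom j = x.left := by
  have h1 := congrArg CommaMorphism.left (((Over.mapPullbackAdj j).homEquiv W' X).symm_apply_apply x)
  rw [Adjunction.homEquiv_counit] at h1
  exact h1

/-- A point over `U` of an object over `Z`, regarded over `U`. -/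
abbrev overBase {W : Over Z} (z : W ⟶ Over.mk j) : Over U := Over.mk z.left

/-- `W` as the image of `overBase`. -/
def baseIso {W : Over Z} (z : W ⟶ Over.mk j) : (Over.map j).obj (overBase j z) ≅ W :=
  Over.isoMk (Iso.refl _) (by
    show 𝟙 _ ≫ W.hom = z.left ≫ j
    rw [Category.id_comp]; exact (Over.w z).symm)

/-- The product with `U` is the base change. -/
def tensorToBc (X : Over Z) : X ⊗ Over.mk j ⟶ (Over.map j).obj (Red.bc j X) :=
  Over.homMk (𝟙 (pullback X.hom j)) (by
    show 𝟙 _ ≫ pullback.snd X.hom j ≫ j = pullback.fst X.hom j ≫ X.hom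
    rw [Category.id_comp]; exact pullback.condition.symm)

theorem lift_tensorToBc {X W : Over Z} (x : W ⟶ X) (z : W ⟶ Over.mk j) :
    lift x z ≫ tensorToBc j X = (baseIso j z).inv ≫
      (Over.map j).map ((Over.mapPullbackAdj j).homEquiv (overBase j z) X ((baseIso j z).hom ≫ x)) := by
  apply Over.OverMorphism.ext
  show (lift x z).left ≫ 𝟙 _ = 𝟙 _ ≫ ((Over.mapPullbackAdj j).homEquiv (overBase j z) X _).left
  rw [Category.comp_id, Category.id_comp]
  refine pullback.hom_ext ?_ ?_
  · refine (?_ : _ = x.left).trans ((homEquiv_left_fst j ((baseIso j z).hom ≫ x)).trans (Category.id_comp _)).symm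
    show (lift x z ≫ fst X (Over.mk j)).left = x.left
    rw [lift_fst]
  · refine (?_ : _ = z.left).trans
      (Over.w ((Over.mapPullbackAdj j).homEquiv (overBase j z) X ((baseIso j z).hom ≫ x))).symm
    show (lift x z ≫ snd X (Over.mk j)).left = z.left
    rw [lift_snd]

/-- An equivariant isomorphism over a base change gives a point of the functor of equivariant families. -/
def homTorOfEquivIso (φ : NonAbH1.EquivIso (aE.bc j) (aF.bc j)) : HomTor aE aF (Over.mk j) :=
  ⟨tensorToBc j E ≫ ((Over.mapPullbackAdj j).homEquiv (Red.bc j E) F).symm φ.iso.hom, by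
    intro W b e z
    set he := fun X => (Over.mapPullbackAdj j).homEquiv (overBase j z) X with hhe
    set w := baseIso j z with hw
    have hc : ∀ x : W ⟶ E, lift x z ≫ tensorToBc j E ≫
        ((Over.mapPullbackAdj j).homEquiv (Red.bc j E) F).symm φ.iso.hom =
        w.inv ≫ (he F).symm (he E (w.hom ≫ x) ≫ φ.iso.hom) := by
      intro x
      rw [← Category.assoc, lift_tensorToBc, Category.assoc, ← Adjunction.homEquiv_naturality_left_symm]
    have key : he E (w.hom ≫ actP aE b e) ≫ φ.iso.hom =
        he F (lift (w.hom ≫ b) ((he F).symm (he E (w.hom ≫ e) ≫ φ.iso.hom)) ≫ aF.act) := by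
      simp only [hhe]
      rw [← AlgGrp.Action.lift_homEquiv_bc_act, Equiv.apply_symm_apply, actP, ← Category.assoc, comp_lift,
        ← AlgGrp.Action.lift_homEquiv_bc_act, Category.assoc, φ.comm, lift_whiskerLeft_assoc]
    rw [hc, hc, key, Equiv.symm_apply_apply, actP, ← Category.assoc, comp_lift, Iso.inv_hom_id_assoc]⟩

end BaseChange

/-- A global point of the functor of equivariant families is an equivariant isomorphism. -/
theorem nonempty_equivIso (c : HomTor aE aF (𝟙_ (Over Z))) (hc : IsIso (lift c.1 (snd E (𝟙_ (Over Z))))) :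
    Nonempty (NonAbH1.EquivIso aE aF) := by
  let f : E ⟶ F := (ρ_ E).inv ≫ c.1
  have hf : IsIso f := by
    have : c.1 = lift c.1 (snd E (𝟙_ (Over Z))) ≫ (ρ_ F).hom := by
      rw [rightUnitor_hom, lift_fst]
    show IsIso ((ρ_ E).inv ≫ c.1)
    rw [this]
    infer_instance
  refine ⟨⟨asIso f, ?_⟩⟩
  rw [asIso_hom]
  have h := c.2 (G ⊗ E) (fst G E) (snd G E) (toUnit _)
  simp only [actP, lift_fst_snd, Category.id_comp] at h
  have hl : ∀ (W : Over Z) (x : W ⟶ E), x ≫ (ρ_ E).inv = lift x (toUnit W) := fun W x => by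
    apply CartesianMonoidalCategory.hom_ext
    · simp
    · exact toUnit_unique _ _
  show aE.act ≫ (ρ_ E).inv ≫ c.1 = _
  rw [← Category.assoc, hl, h, show lift (snd G E) (toUnit (G ⊗ E)) ≫ c.1 = snd G E ≫ f by
    rw [← hl, Category.assoc]]
  refine congrArg (· ≫ aF.act) ?_
  apply CartesianMonoidalCategory.hom_ext <;> simp

/-- Injectivity of restriction of torsor classes to a nonempty open of a normal integral scheme. -/
theorem nonempty_equivIso_of_restrict [IsIntegral Z] (hZ : Pi1.IsNormalScheme Z) [IsFinite G.hom] [Flat G.hom]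
    (hE : NonAbH1.IsTorsorFor Scheme.fppfPrecoverage aE) (hF : NonAbH1.IsTorsorFor Scheme.fppfPrecoverage aF)
    (U : Z.Opens) (hU : genericPoint Z ∈ U) (φ : NonAbH1.EquivIso (aE.bc U.ι) (aF.bc U.ι)) :
    Nonempty (NonAbH1.EquivIso aE aF) := by
  haveI := lfp_of_finite_flat G.hom
  obtain ⟨A, ⟨e⟩, hA⟩ := exists_finite_rep hE hF
  let s : Over.mk U.ι ⟶ A := e.homEquiv.symm (homTorOfEquivIso U.ι φ)
  obtain ⟨t, ht⟩ := NonAbLib.exists_section_of_generic A.hom hZ (U.fromSpecStalkOfMem _ hU ≫ s.left) (by
    rw [Category.assoc, Over.w s]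
    exact Scheme.Opens.fromSpecStalkOfMem_ι _ _ _)
  let t' : 𝟙_ (Over Z) ⟶ A := Over.homMk t ht
  exact nonempty_equivIso (e.homEquiv t') ((exists_rep_of_torsors hE hF).2 _ _)

end Groth.Agent.TorsorInj
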